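import Groth.Agent.RelFlatLib.FibreStalk
import Groth.Agent.RelFlatLib.OpenAmp
import Groth.Agent.RelFlatLib.Absolute
import Groth.Agent.TwoTermLib.Fibre
import Groth.Agent.KFlatLib.PerfectPull
import Groth.Agent.TorLocLib.Restr

/-!
# Perfection from perfection on the fibres
-/

set_option autoImplicit false
set_option linter.all false
set_option backward.isDefEq.respectTransparency false
set_option backward.isDefEq.respectTransparency.types false

universe u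

open CategoryTheory CategoryTheory.Limits AlgebraicGeometry HomologicalComplex TensorProduct
open Groth.Agent
open Groth.Agent.PerfLib (resD)

attribute [local instance] HasDerivedCategory.standard

noncomputable section

namespace FibPerfLib

/-- Tor amplitude over a local ring from that of the base change to a quotient. -/
theorem amp_of_quotient {B C : Type u} [CommRing B] [IsLocalRing B] [CommRing C] [Nontrivial C]
    (ψ : B →+* C) (hs : Function.Surjective ψ) {P : CochainComplex (ModuleCat.{u} B) ℤ}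
    (hP : DRing.IsKFlat B P) (hpc : ∀ m, DRing.IsPseudoCoherent B m (DerivedCategory.Q.obj P)) {a b : ℤ}
    (hC : DRing.HasTorAmplitudeIn C a b (DerivedCategory.Q.obj ((DRingLib.extCx ψ).obj P))) :
    DRing.HasTorAmplitudeIn B a b (DerivedCategory.Q.obj P) := by
  obtain ⟨E, b', hEb, hEf, ⟨eE⟩⟩ := DRingLib.isPseudoCoherent'_of_forall hpc
  have hK := DRingLib.isKFlat_of_free E b' hEb (fun i => (hEf i).2)
  haveI := DRingLib.isKProjective_of_free E b' hEb (fun i => (hEf i).2)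
  obtain ⟨g, hg⟩ := DRingLib.exists_qis_of_iso E P eE
  haveI : QuasiIso ((DRingLib.extCx ψ).map g) := KFlatLib.quasiIso_extend ψ hK hP g
  have hA : DRingLib.Amp a b ((DRingLib.extCx ψ).obj E) :=
    DRingLib.amp_of_hasTorAmplitudeIn hC (KFlatLib.isKFlat_extend ψ hK)
      (asIso (DerivedCategory.Q.map ((DRingLib.extCx ψ).map g)))
  refine (TwoTermLib.Fibre.perfect_of_amp hEb hEf (TwoTermLib.Fibre.amp_of_fibres hEf fun m hm i hi => ?_) eE).2
  haveI := hm
  have hker : RingHom.ker ψ ≤ m := by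
    rw [IsLocalRing.eq_maximalIdeal hm]
    exact IsLocalRing.le_maximalIdeal (RingHom.ker_ne_top ψ)
  letI : Field (B ⧸ m) := Ideal.Quotient.field m
  refine ⟨B ⧸ m, inferInstance, inferInstance, Ideal.Quotient.mk_surjective, Ideal.mk_ker, ?_⟩
  let χ : C →+* B ⧸ m := RingHom.liftOfSurjective ψ hs
    ⟨Ideal.Quotient.mk m, by rw [Ideal.mk_ker]; exact hker⟩
  letI := ψ.toAlgebra
  letI := χ.toAlgebra
  haveI : IsScalarTower B C (B ⧸ m) := IsScalarTower.of_algebraMap_eq fun r => by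
    change Ideal.Quotient.mk m r = χ (ψ r)
    exact (RingHom.liftOfSurjective_comp_apply ψ hs ⟨Ideal.Quotient.mk m, by rw [Ideal.mk_ker]; exact hker⟩ r).symm
  have h0 := hA (ModuleCat.of C (B ⧸ m)) i hi
  rw [← exactAt_iff_isZero_homology, exactAt_iff' _ (i - 1) i (i + 1) (by simp) (by simp),
    CategoryTheory.ShortComplex.ShortExact.moduleCat_exact_iff_function_exact] at h0
  replace h0 : Function.Exact
      (((E.d (i - 1) i).hom.baseChange C).rTensor (B ⧸ m))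
      (((E.d i (i + 1)).hom.baseChange C).rTensor (B ⧸ m)) := h0
  let c : ∀ (X : Type u) [AddCommGroup X] [Module B X],
      TensorProduct C (TensorProduct B C X) (B ⧸ m) ≃+ TensorProduct B (B ⧸ m) X :=
    fun X _ _ => (TensorProduct.comm C _ _).toAddEquiv.trans
      (TensorProduct.AlgebraTensorModule.cancelBaseChange B C C (B ⧸ m) X).toAddEquiv
  refine Function.Exact.of_ladder_addEquiv_of_exact (e₁ := c _) (e₂ := c _) (e₃ := c _)
    (f₁₂ := (((E.d (i - 1) i).hom.baseChange C).rTensor (B ⧸ m)).toAddMonoidHom)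
    (f₂₃ := (((E.d i (i + 1)).hom.baseChange C).rTensor (B ⧸ m)).toAddMonoidHom)
    (g₁₂ := ((E.d (i - 1) i).hom.baseChange (B ⧸ m)).toAddMonoidHom)
    (g₂₃ := ((E.d i (i + 1)).hom.baseChange (B ⧸ m)).toAddMonoidHom) ?_ ?_ h0
  all_goals
    ext x
    induction x using TensorProduct.induction_on with
    | zero => simp
    | add x y hx hy => simp_all
    | tmul z w =>
      induction z using TensorProduct.induction_on with
      | zero => simp
      | add x y hx hy => simp_all [TensorProduct.add_tmul]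
      | tmul b z => simp [c]

theorem amp_res_id_iff {R : Type u} [CommRing R] {θ : R →+* R} (hθ : θ = RingHom.id R)
    (M : CochainComplex (ModuleCat.{u} R) ℤ) (a b : ℤ) :
    DRing.HasTorAmplitudeIn R a b (DerivedCategory.Q.obj ((TwoTermLib.RelAmp.resCx θ).obj M)) ↔
      DRing.HasTorAmplitudeIn R a b (DerivedCategory.Q.obj M) := by
  subst hθ
  let e : (TwoTermLib.RelAmp.resCx (RingHom.id R)).obj M ≅ M :=
    HomologicalComplex.Hom.isoOfComponents (fun n => (ModuleCat.restrictScalarsId R).app (M.X n))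
      (fun i j _ => ((ModuleCat.restrictScalarsId R).hom.naturality (M.d i j)).symm)
  exact ⟨DRingLib.hasTorAmplitudeIn_of_iso (DerivedCategory.Q.mapIso e),
    DRingLib.hasTorAmplitudeIn_of_iso (DerivedCategory.Q.mapIso e.symm)⟩

variable {X : Scheme.{u}}

theorem ampD_id_iff {P : CochainComplex X.Modules ℤ} {K : DCoh.D X} (e : DCoh.toD X P ≅ K) (x : X) (a b : ℤ) :
    RelFlatLib.AmpD (𝟙 X) a b K x ↔
      DRing.HasTorAmplitudeIn (X.presheaf.stalk x) a b
        (DerivedCategory.Q.obj ((KFlatLib.stalkCx X x).obj P)) := by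
  rw [RelFlatLib.ampD_rep _ e x]
  exact amp_res_id_iff (R := X.presheaf.stalk x) (θ := ((𝟙 X : X ⟶ X).stalkMap x).hom)
    (by rw [Scheme.Hom.stalkMap_id]; rfl) ((KFlatLib.stalkCx X x).obj P) a b

theorem exists_ampD_of_isPerfect {K : DCoh.D X} (h : DCoh.IsPerfect K) (x : X) :
    ∃ (V : X.Opens) (a b : ℤ), x ∈ V ∧ ∀ x' ∈ V, RelFlatLib.AmpD (𝟙 X) a b K x' := by
  obtain ⟨V, hx, hV⟩ := h x
  obtain ⟨E, ⟨⟨a, b, h1⟩, h2⟩, ⟨e⟩⟩ := hV _ ⟨DerivedCategory.Q.objObjPreimageIso K⟩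
  have hE : DCoh.HasFlatAmplitudeIn a b ((resD V.ι).obj K) :=
    ⟨E, h1, fun i => KFlatLib.isFlat_of_isFinLocFree (h2 i), ⟨e.symm ≪≫ (PerfLib.resDQIso V.ι _).symm ≪≫
      (resD V.ι).mapIso (DerivedCategory.Q.objObjPreimageIso K)⟩⟩
  exact ⟨V, a, b, hx, fun x' hx' => (RelFlatLib.ampD_id_res_iff V.ι ⟨x', hx'⟩ a b K).1
    ((RelFlatLib.flatAmp_iff_ampD _ a b).1 hE ⟨x', hx'⟩)⟩

/-- A perfect object is locally of finite tor dimension relative to a flat morphism. -/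
theorem loc_of_isPerfect {S : Scheme.{u}} (f : X ⟶ S) [Flat f] {K : DCoh.D X} (h : DCoh.IsPerfect K) :
    DCoh.LocHasFiniteRelTorDim f K := by
  obtain ⟨P, ⟨e⟩⟩ : ∃ P, Nonempty (DCoh.toD X P ≅ K) := ⟨_, ⟨DerivedCategory.Q.objObjPreimageIso K⟩⟩
  refine (RelFlatLib.loc_iff_ampD f).2 fun x => ?_
  obtain ⟨V, a, b, hx, hV⟩ := exists_ampD_of_isPerfect h x
  refine ⟨V, a, b, hx, fun x' hx' => (RelFlatLib.ampD_rep f e x').2 ?_⟩
  exact DRingLib.hasTorAmplitudeIn_of_iso (TorLocLib.restrictDQ (f.stalkMap x').hom _)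
    (TorLocLib.hasTorAmplitudeIn_restrictD (f.stalkMap x').hom (Flat.stalkMap f x')
      ((ampD_id_iff e x' a b).1 (hV x' hx')))

/-- Finite amplitude at a point from perfection on the fibre. -/
theorem exists_ampD_of_fibre {S : Scheme.{u}} (f : X ⟶ S) (s : S) [DCoh.HasLpull (f.fiberι s)] {E : DCoh.D X}
    (hpc : ∀ m, DCoh.IsPseudoCoherentD m E) (hfib : DCoh.IsPerfect ((DCoh.Lpull (f.fiberι s)).obj E))
    (y : f.fiber s) : ∃ a b : ℤ, RelFlatLib.AmpD (𝟙 X) a b E (f.fiberι s y) := by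
  obtain ⟨P, hP, ⟨eP⟩⟩ := KFlatLib.exists_good_rep E
  obtain ⟨V, a, b, hy, hV⟩ := exists_ampD_of_isPerfect hfib y
  obtain ⟨hs, -⟩ := Groth.Agent.S9501.result f s y
  refine ⟨a, b, (ampD_id_iff eP _ a b).2 (amp_of_quotient ((f.fiberι s).stalkMap y).hom hs
    (KFlatLib.stalks_isKFlat hP.1 _) (fun m => RelFlatLib.stalkCx_pc eP (hpc m) _) ?_)⟩
  exact DRingLib.hasTorAmplitudeIn_of_iso (DerivedCategory.Q.mapIso (KFlatLib.stalkPullCxIso (f.fiberι s) y P))
    ((ampD_id_iff ((KFlatLib.lpullObjIso (f.fiberι s) P hP.1).symm ≪≫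
      (DCoh.Lpull (f.fiberι s)).mapIso eP) y a b).1 (hV y hy))


set_option maxHeartbeats 2000000 in
theorem isPerfect_of_fibres {S : Scheme.{u}} (f : X ⟶ S) [Flat f]
    [∀ s : S, DCoh.HasLpull (f.fiberι s)] {E : DCoh.D X} (hpc : ∀ m : ℤ, DCoh.IsPseudoCoherentD m E)
    (hloc : DCoh.LocHasFiniteRelTorDim f E)
    (hfib : ∀ s : S, DCoh.IsPerfect ((DCoh.Lpull (f.fiberι s)).obj E)) : DCoh.IsPerfect E := by
  refine (PerfLib.isPerfect_iff E).2 fun x => ?_
  obtain ⟨V, a₀, b₀, hxV, hV⟩ := (RelFlatLib.loc_iff_ampD f).1 hloc x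
  obtain ⟨y, hy⟩ := (f.range_fiberι (f x)).symm ▸ (show x ∈ f.base ⁻¹' {f x} from rfl)
  obtain ⟨a, b, hab⟩ := exists_ampD_of_fibre f _ hpc (hfib _) y
  rw [hy] at hab
  obtain ⟨P, ⟨e⟩⟩ : ∃ P, Nonempty (DCoh.toD X P ≅ E) := ⟨_, ⟨DerivedCategory.Q.objObjPreimageIso E⟩⟩
  have hlow : ∀ i, i < min a a₀ → IsZero (DCoh.HD ((resD V.ι).obj E) i) := fun i hi => by
    obtain ⟨F, ⟨eF⟩⟩ : ∃ F, Nonempty (DCoh.toD _ F ≅ (resD V.ι).obj E) :=
      ⟨_, ⟨DerivedCategory.Q.objObjPreimageIso _⟩⟩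
    have h1 : DerSch.HasTorAmplitude (V.ι ≫ f) a₀ b₀ F := fun v => (RelFlatLib.ampD_rep _ eF v).1
      ((RelFlatLib.ampD_res_iff V.ι f v a₀ b₀ E).2 (hV (V.ι v) v.2))
    exact (RelFlatLib.isZero_homology_of_ampAt (V.ι ≫ f) (i := i) (Or.inl (by omega)) h1).of_iso
      ((DerivedCategory.homologyFunctor _ i).mapIso eF.symm ≪≫
        (DerivedCategory.homologyFunctorFactors _ i).app F)
  have hamp : RelFlatLib.AmpD (𝟙 _) (min a a₀) b ((resD V.ι).obj E) ⟨x, hxV⟩ :=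
    RelFlatLib.ampD_mono _ (min_le_left _ _) le_rfl ((RelFlatLib.ampD_id_res_iff V.ι ⟨x, hxV⟩ a b E).2 hab)
  obtain ⟨W, hxW, hW⟩ := RelFlatLib.exists_perfect_nhd (PerfLib.isPC_res (hpc _) V.ι) hlow hamp
  obtain ⟨O, j, hj, v, hv, G, hG, ⟨eG⟩⟩ := (PerfLib.isPerfect_iff _).1 hW ⟨⟨x, hxV⟩, hxW⟩
  obtain ⟨e'⟩ := PerfLib.nonempty_resD_comp j W.ι ((resD V.ι).obj E)
  obtain ⟨e''⟩ := PerfLib.nonempty_resD_comp (j ≫ W.ι) V.ι E
  exact ⟨O, (j ≫ W.ι) ≫ V.ι, inferInstance, v, congrArg (fun w => (W.ι ≫ V.ι) w) hv, G, hG,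
    ⟨e'' ≪≫ e' ≪≫ eG⟩⟩

end FibPerfLib
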